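import Cfsg.Agent.H92.ExcSL2
import Cfsg.Agent.H864.TD.Defs
import Cfsg.Agent.H720.TwFr

/-!
# `SL₂` in the fixed points of a frame automorphism (helper202; light copies of parts of helper305 / helper705)

`exists_phi` : the homomorphism of a fixed root on which the automorphism is the field automorphism;
`Blk`, `opHom` : `A ↦ ∏ τ ^ i (φ A)` for an orbit of commuting `SL₂`'s; `exists_field`.
-/

set_option autoImplicit false
set_option linter.unusedSectionVars false

namespace Cfsg.Agent.H202.TD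

open Cfsg.Agent.ChevalleyStructure.SL2Hom Cfsg.Agent.H92.ExcSL2
open Cfsg.Agent.BpExc

universe u v

/-! ### elements of `SL₂` -/

section SL2

variable {F : Type u} [Field F]

/-- `diag(d, d⁻¹)` -/
def dg (d : F) (hd : d ≠ 0) : SL2 F := ⟨!![d, 0; 0, d⁻¹], by simp [Matrix.det_fin_two, hd]⟩

theorem dg_up (d : F) (hd : d ≠ 0) (s : F) : dg d hd * up s = up (d ^ 2 * s) * dg d hd := by
  apply Subtype.ext
  show (dg d hd).1 * (up s).1 = (up (d ^ 2 * s)).1 * (dg d hd).1
  ext i j
  fin_cases i <;> fin_cases j <;> simp [up, dg]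
  field_simp

theorem dg_lo (d : F) (hd : d ≠ 0) (s : F) : dg d hd * lo s = lo ((d ^ 2)⁻¹ * s) * dg d hd := by
  apply Subtype.ext
  show (dg d hd).1 * (lo s).1 = (lo ((d ^ 2)⁻¹ * s)).1 * (dg d hd).1
  ext i j
  fin_cases i <;> fin_cases j <;> simp [lo, dg]
  field_simp

theorem wel_up (s : F) : wel (1 : F) one_ne_zero * up s = lo (-s) * wel (1 : F) one_ne_zero := by
  apply Subtype.ext
  show (wel (1 : F) one_ne_zero).1 * (up s).1 = (lo (-s)).1 * (wel (1 : F) one_ne_zero).1
  ext i j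
  fin_cases i <;> fin_cases j <;> simp [up, lo, wel]

/-- The computation showing that the two parameters are inverse to each other. -/
theorem mul_eq_one {c c' : F} (hc : c ≠ 0) (hc' : c' ≠ 0)
    (h : (up c * lo (-c') * up c) * up c = lo (-c') * (up c * lo (-c') * up c) ∨
      (up c * lo (-c') * up c) * up c = -(lo (-c') * (up c * lo (-c') * up c))) : c * c' = 1 := by
  have e01 : ((up c * lo (-c') * up c) * up c).1 0 1 = (3 - 2 * (c * c')) * c := by
    show (((up c).1 * (lo (-c')).1 * (up c).1) * (up c).1) 0 1 = _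
    simp [up, lo, Matrix.mul_apply, Fin.sum_univ_two]
    ring
  have e10 : ((up c * lo (-c') * up c) * up c).1 1 0 = -c' := by
    show (((up c).1 * (lo (-c')).1 * (up c).1) * (up c).1) 1 0 = _
    simp [up, lo, Matrix.mul_apply, Fin.sum_univ_two]
  have f01 : (lo (-c') * (up c * lo (-c') * up c)).1 0 1 = (2 - c * c') * c := by
    show ((lo (-c')).1 * ((up c).1 * (lo (-c')).1 * (up c).1)) 0 1 = _
    simp [up, lo, Matrix.mul_apply, Fin.sum_univ_two]
    ring
  have f10 : (lo (-c') * (up c * lo (-c') * up c)).1 1 0 = -c' * (2 - c * c') := by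
    show ((lo (-c')).1 * ((up c).1 * (lo (-c')).1 * (up c).1)) 1 0 = _
    simp [up, lo, Matrix.mul_apply, Fin.sum_univ_two]
    ring
  rcases h with h | h
  · have h1 := congrArg (fun A : SL2 F => A.1 0 1) h
    simp only [e01, f01] at h1
    have h2 := mul_right_cancel₀ hc h1
    linear_combination -h2
  · have h1 := congrArg (fun A : SL2 F => A.1 0 1) h
    have h2 := congrArg (fun A : SL2 F => A.1 1 0) h
    have n01 : (-(lo (-c') * (up c * lo (-c') * up c))).1 0 1 = -((2 - c * c') * c) := by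
      rw [← f01]; rfl
    have n10 : (-(lo (-c') * (up c * lo (-c') * up c))).1 1 0 = -(-c' * (2 - c * c')) := by
      rw [← f10]; rfl
    simp only [e01, n01] at h1
    simp only [e10, n10] at h2
    have h3 : 3 - 2 * (c * c') = -(2 - c * c') := by
      apply mul_right_cancel₀ hc
      linear_combination h1
    have h4 : (2 - c * c') = -1 := by
      apply mul_left_cancel₀ (neg_ne_zero.2 hc')
      linear_combination h2
    have h5 : c * c' = 3 := by linear_combination -h4
    rw [h5] at h3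
    have h6 : (2 : F) * 2 = 0 := by linear_combination -h3
    have h7 : (2 : F) = 0 := by
      rcases _root_.mul_eq_zero.1 h6 with h | h <;> exact h
    rw [h5]
    linear_combination h7

/-- An element of `SL₂(F)` centralising everything up to sign is `± 1`. -/
theorem eq_or_of_sign {A : SL2 F} (h : ∀ g : SL2 F, A * g = g * A ∨ A * g = -(g * A)) :
    A = 1 ∨ A = -1 := by
  -- `A` commutes with unipotent elements
  have key : ∀ g : SL2 F, g.1 0 0 + g.1 1 1 = 2 → A * g = g * A := by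
    intro g hg
    rcases h g with h1 | h1
    · exact h1
    have h2 : g = -(A⁻¹ * g * A) := by
      have : A⁻¹ * (A * g) = A⁻¹ * (-(g * A)) := by rw [h1]
      rw [inv_mul_cancel_left, mul_neg, ← mul_assoc] at this
      exact this
    have h3 : Matrix.trace (A⁻¹ * g * A).1 = Matrix.trace g.1 := by
      have e : (A⁻¹ * g * A).1 = (A⁻¹ * g).1 * A.1 := rfl
      rw [e, Matrix.trace_mul_comm]
      have e' : A.1 * (A⁻¹ * g).1 = (A * (A⁻¹ * g)).1 := rfl
      rw [e', mul_inv_cancel_left]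
    have h4 : Matrix.trace g.1 = 2 := by rw [Matrix.trace_fin_two]; exact hg
    have h5 : Matrix.trace g.1 = -Matrix.trace (A⁻¹ * g * A).1 := by
      conv_lhs => rw [h2]
      rw [← Matrix.trace_neg]
      rfl
    rw [h3, h4] at h5
    have h6 : (2 : F) = 0 := by
      have : (2 : F) * 2 = 0 := by linear_combination h5
      rcases _root_.mul_eq_zero.1 this with h | h <;> exact h
    rw [h1]
    have h7 : ∀ x : F, -x = x := fun x => by linear_combination -x * h6
    apply Subtype.ext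
    ext i j
    exact h7 _
  have h1 := key (up 1) (by simp [up]; norm_num)
  have h2 := key (lo 1) (by simp [lo]; norm_num)
  have a1 := congrArg (fun B : SL2 F => B.1 0 0) h1
  have a2 := congrArg (fun B : SL2 F => B.1 0 1) h1
  have a3 := congrArg (fun B : SL2 F => B.1 0 0) h2
  have s1 : (A * up (1 : F)).1 0 0 = A.1 0 0 := by
    show (A.1 * (up (1 : F)).1) 0 0 = _
    simp [up, Matrix.mul_apply, Fin.sum_univ_two]
  have s2 : (up (1 : F) * A).1 0 0 = A.1 0 0 + A.1 1 0 := by
    show ((up (1 : F)).1 * A.1) 0 0 = _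
    simp [up, Matrix.mul_apply, Fin.sum_univ_two]
  have s3 : (A * up (1 : F)).1 0 1 = A.1 0 0 + A.1 0 1 := by
    show (A.1 * (up (1 : F)).1) 0 1 = _
    simp [up, Matrix.mul_apply, Fin.sum_univ_two]
  have s4 : (up (1 : F) * A).1 0 1 = A.1 0 1 + A.1 1 1 := by
    show ((up (1 : F)).1 * A.1) 0 1 = _
    simp [up, Matrix.mul_apply, Fin.sum_univ_two]
  have s5 : (A * lo (1 : F)).1 0 0 = A.1 0 0 + A.1 0 1 := by
    show (A.1 * (lo (1 : F)).1) 0 0 = _
    simp [lo, Matrix.mul_apply, Fin.sum_univ_two]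
  have s6 : (lo (1 : F) * A).1 0 0 = A.1 0 0 := by
    show ((lo (1 : F)).1 * A.1) 0 0 = _
    simp [lo, Matrix.mul_apply, Fin.sum_univ_two]
  simp only [s1, s2] at a1
  simp only [s3, s4] at a2
  simp only [s5, s6] at a3
  have b10 : A.1 1 0 = 0 := by linear_combination -a1
  have b01 : A.1 0 1 = 0 := by linear_combination a3
  have b11 : A.1 1 1 = A.1 0 0 := by linear_combination -a2
  have hdet : A.1 0 0 * A.1 1 1 - A.1 0 1 * A.1 1 0 = 1 := by rw [← Matrix.det_fin_two]; exact A.2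
  rw [b10, b01, b11, mul_zero, sub_zero] at hdet
  have h8 : (A.1 0 0 - 1) * (A.1 0 0 + 1) = 0 := by linear_combination hdet
  rcases _root_.mul_eq_zero.1 h8 with h9 | h9
  · left
    have h10 : A.1 0 0 = 1 := by linear_combination h9
    apply Subtype.ext
    show A.1 = 1
    ext i j
    fin_cases i <;> fin_cases j <;> simp [b10, b01, b11, h10]
  · right
    have h10 : A.1 0 0 = -1 := by linear_combination h9
    apply Subtype.ext
    show A.1 = -1
    ext i j
    fin_cases i <;> fin_cases j <;> simp [b10, b01, b11, h10]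

theorem map_up {E : Type*} [Field E] (ι : F →+* E) (s : F) :
    Matrix.SpecialLinearGroup.map ι (up s) = (up (ι s) : Matrix.SpecialLinearGroup (Fin 2) E) := by
  apply Subtype.ext
  show (up s).1.map ι = (up (ι s)).1
  ext a b
  fin_cases a <;> fin_cases b <;> simp [up]

theorem map_lo {E : Type*} [Field E] (ι : F →+* E) (s : F) :
    Matrix.SpecialLinearGroup.map ι (lo s) = (lo (ι s) : Matrix.SpecialLinearGroup (Fin 2) E) := by
  apply Subtype.ext
  show (lo s).1.map ι = (lo (ι s)).1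
  ext a b
  fin_cases a <;> fin_cases b <;> simp [lo]

theorem map_inj {E : Type*} [Field E] (ι : F →+* E) :
    Function.Injective (Matrix.SpecialLinearGroup.map ι : Matrix.SpecialLinearGroup (Fin 2) F →* _) := by
  intro a b hab
  apply Subtype.ext
  ext x y
  have := congrArg (fun z : Matrix.SpecialLinearGroup (Fin 2) E => z.1 x y) hab
  exact ι.injective this

/-- Two homomorphisms from `SL₂(F)` agreeing on the transvections are equal. -/
theorem hom_ext {Y : Type*} [Group Y] {f g : SL2 F →* Y} (hu : ∀ s, f (up s) = g (up s))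
    (hl : ∀ s, f (lo s) = g (lo s)) : f = g := by
  have h1 : Subgroup.closure (Set.range (up (F := F)) ∪ Set.range (lo (F := F))) ≤ f.eqLocus g := by
    rw [Subgroup.closure_le]
    rintro _ (⟨s, rfl⟩ | ⟨s, rfl⟩)
    · exact hu s
    · exact hl s
  ext A
  exact h1 (mem_closure_SL2 A)

end SL2

/-! ### the product over the orbit -/

section Abstract

variable {Y : Type*} [Group Y] {F : Type u} [Field F]

theorem op_mul {τ : MulAut Y} {a b : Y} {m : ℕ}
    (h : ∀ i j, i < j → j < m → Commute ((τ ^ i) b) ((τ ^ j) a)) :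
    NInst.op τ (a * b) m = NInst.op τ a m * NInst.op τ b m := by
  induction m with
  | zero =>
    show (1 : Y) = 1 * 1
    rw [mul_one]
  | succ m ih =>
    have h1 : Commute (NInst.op τ b m) ((τ ^ m) a) := by
      unfold NInst.op
      refine Commute.list_prod_left _ _ fun z hz => ?_
      obtain ⟨i, hi, rfl⟩ := List.mem_map.1 hz
      exact h i m (List.mem_range.1 hi) (Nat.lt_succ_self m)
    rw [NInst.op_succ, NInst.op_succ, NInst.op_succ, ih fun i j hij hj => h i j hij (hj.trans (Nat.lt_succ_self m)),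
      map_mul]
    calc NInst.op τ a m * NInst.op τ b m * ((τ ^ m) a * (τ ^ m) b)
        = NInst.op τ a m * (NInst.op τ b m * (τ ^ m) a) * (τ ^ m) b := by group
      _ = NInst.op τ a m * ((τ ^ m) a * NInst.op τ b m) * (τ ^ m) b := by rw [h1.eq]
      _ = _ := by group
end Abstract

/-! ### the blocks -/

section Blk

variable {Y : Type v} [Group Y] {k : Type u} [Field k] {r : ℕ} [hrf : Fact r.Prime] [CharP k r]

/-- a block -/
structure Blk (τ : MulAut Y) (Q m : ℕ) (φ : SL2 k →* Y) : Prop where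
  pos : 0 < m
  ker : ∀ A, φ A = 1 → A = 1 ∨ A = -1
  up : ∀ s, (τ ^ m) (φ (up s)) = φ (up (s ^ Q))
  lo : ∀ s, (τ ^ m) (φ (lo s)) = φ (lo (s ^ Q))
  comm : ∀ i, 0 < i → i < m → ∀ g g', Commute (φ g) ((τ ^ i) (φ g'))

variable {τ : MulAut Y} {Q m : ℕ} {φ : SL2 k →* Y}

theorem Blk.cc (h : Blk τ Q m φ) : ∀ i i', i ≠ i' → i < m → i' < m → ∀ g g',
    Commute ((τ ^ i) (φ g)) ((τ ^ i') (φ g')) := by
  have h0 : ∀ i i', i < i' → i' < m → ∀ g g', Commute ((τ ^ i) (φ g)) ((τ ^ i') (φ g')) := by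
    intro i i' hii hi' g g'
    obtain ⟨d, rfl⟩ := Nat.exists_eq_add_of_lt hii
    have e : τ ^ (i + d + 1) = τ ^ i * τ ^ (d + 1) := by rw [← pow_add, add_assoc]
    rw [e, MulAut.mul_apply]
    exact (h.comm (d + 1) (Nat.succ_pos d) (by omega) g g').map (τ ^ i)
  intro i i' hne hi hi' g g'
  rcases lt_or_gt_of_ne hne with h' | h'
  · exact h0 i i' h' hi' g g'
  · exact (h0 i' i h' hi g' g).symm

/-- `A ↦ ∏ τ ^ i (φ A)` -/
def opHom (h : Blk τ Q m φ) : SL2 k →* Y where
  toFun := fun a => NInst.op τ (φ a) m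
  map_one' := by
    show ((List.range m).map fun i => (τ ^ i) (φ 1)).prod = 1
    apply List.prod_eq_one
    intro x hx
    obtain ⟨i, -, rfl⟩ := List.mem_map.1 hx
    rw [map_one, map_one]
  map_mul' := fun a b => by
    rw [map_mul]
    refine op_mul fun i i' hi hi' => ?_
    exact h.cc i i' hi.ne (hi.trans hi') hi' _ _

theorem opHom_apply (h : Blk τ Q m φ) (A : SL2 k) : opHom h A = NInst.op τ (φ A) m := rfl

/-- The kernel of `opHom`. -/
theorem Blk.ker_op (h : Blk τ Q m φ) {A : SL2 k} (hA : opHom h A = 1) : A = 1 ∨ A = -1 := by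
  have h2 : (τ ^ 0) (φ A) ∈ Subgroup.centralizer (Set.range φ) := by
    refine NInst.mem_of_op h.pos (by rw [← opHom_apply h, hA]; exact one_mem _) fun i hi hi0 => ?_
    rw [Subgroup.mem_centralizer_iff]
    rintro _ ⟨g, rfl⟩
    exact (h.comm i (Nat.pos_of_ne_zero hi0) hi g A).eq
  rw [pow_zero, MulAut.one_apply, Subgroup.mem_centralizer_iff] at h2
  apply eq_or_of_sign
  intro g
  have h4 := h2 (φ g) ⟨g, rfl⟩
  have h5 : φ ((A * g) * (g * A)⁻¹) = 1 := by
    rw [map_mul, map_inv, map_mul, map_mul, h4, mul_inv_cancel]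
  rcases h.ker _ h5 with h6 | h6
  · left
    exact mul_inv_eq_one.1 h6
  · right
    have h7 := mul_inv_eq_iff_eq_mul.1 h6
    rw [h7, neg_mul, one_mul]

variable {F : Type} [Field F] (ι : F →+* k)

theorem Blk.ker_comp (h : Blk τ Q m φ) {A : SL2 F}
    (hA : ((opHom h).comp (Matrix.SpecialLinearGroup.map ι)) A = 1) : A = 1 ∨ A = -1 := by
  rcases h.ker_op hA with h1 | h1
  · left
    apply map_inj ι
    rw [h1, map_one]
  · right
    apply map_inj ι
    rw [h1]
    apply Subtype.ext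
    ext i j
    show (-1 : Matrix (Fin 2) (Fin 2) k) i j = ι ((-1 : Matrix (Fin 2) (Fin 2) F) i j)
    rw [Matrix.neg_apply, Matrix.neg_apply, map_neg, Matrix.one_apply, Matrix.one_apply]
    split_ifs <;> simp

end Blk

/-! ### the Chevalley groups -/

section Chev

open CoxeterSystem Cfsg Cfsg.Lie Cfsg.Lie.ChevalleyDatum
open Cfsg.Agent.ChevalleyStructure Cfsg.Agent.ChevalleyStructure.Elts Cfsg.Agent.ChevalleyStructure.CoxeterGeom
  Cfsg.Agent.ChevalleyStructure.CoxeterGeomTypes Cfsg.Agent.ChevalleyStructure.NPerm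
open Cfsg.Agent.Tits.Roots Cfsg.Agent.Tits.Core Cfsg.Agent.Nodes Cfsg.Agent.Nodes.Reps Cfsg.Agent.Nodes.BNOf
  Cfsg.Agent.Nodes.RGDChev
open Cfsg.Agent.KFacts.RgdField Cfsg.Agent.KFacts.RgdChevCoord
open Cfsg.Agent.BpExc.TorCent Cfsg.Agent.BpExc.TorChev Cfsg.Agent.BpExc.Tow
  Cfsg.Agent.BpExc.TowChev Cfsg.Agent.BpExc.Fr Cfsg.Agent.BpExc.Pair Cfsg.Agent.BpExc.LangFr Cfsg.Agent.GpExc.Field

variable {D : ChevalleyDatum} {l : ℕ} {M : CoxeterMatrix (Fin l)} (hp : IsType D l M) {k : Type u} [Field k]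
  {W : Type*} [Group W] (cs : CoxeterSystem M W)

variable {r e : ℕ} [Fact r.Prime] [CharP k r] {τ : MulAut ↥(D.group k)} {g : (Fin l → ℤ) ≃+ (Fin l → ℤ)}

include cs in
/-- The homomorphism `SL₂(k) → D.group k` of a `g`-fixed root, adjusted such that `τ` acts as the field
automorphism. -/
theorem exists_phi [IsAlgClosed k] (he : 0 < e) (hτ : IsFrob r e τ)
    (F : Fr cs hp.isCartan (TT D k) (XX D l k) τ g) {γ : Fin l → ℤ} (hγ : IsRoot cs hp.isCartan γ) (hg : g γ = γ) :
    ∃ φ : SL2 k →* ↥(D.group k), ∃ b : k, b ≠ 0 ∧ (∀ s, φ (up s) = xc hp γ (b * s)) ∧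
      (∀ s, φ (lo s) = xc hp (-γ) (b⁻¹ * s)) ∧ (∀ A, φ A = 1 → A = 1 ∨ A = -1) ∧
      (∀ s, τ (φ (up s)) = φ (up (s ^ r ^ e))) ∧ (∀ s, τ (φ (lo s)) = φ (lo (s ^ r ^ e))) := by
  obtain ⟨c, hc0, hc⟩ := HX.fr_xc hp cs hτ F hγ
  obtain ⟨c', hc0', hc'⟩ := HX.fr_xc hp cs hτ F hγ.neg
  rw [hg] at hc
  rw [map_neg, hg] at hc'
  obtain ⟨a, ha, rfl⟩ := (isRoot_iff hp cs γ).1 hγ
  have hna : D.neg a < D.nroots := (SL2All.good_of_mem D hp.inList a ha).neg_lt
  set φ₀ := ph (F := k) hp.inList ha with hφ₀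
  have hup : ∀ s, φ₀ (up s) = xc hp (vec D l a) s := by
    intro s
    apply Subtype.ext
    rw [hφ₀, coe_ph, phi_up hp.inList ha, coe_xc hp ha]
  have hlo : ∀ s, φ₀ (lo s) = xc hp (-vec D l a) s := by
    intro s
    apply Subtype.ext
    rw [hφ₀, coe_ph, phi_lo hp.inList ha, ← vec_neg hp ha, coe_xc hp hna]
  have hQ : 1 < r ^ e := Nat.one_lt_pow he.ne' (Fact.out : r.Prime).one_lt
  -- the two parameters
  have hw : τ (φ₀ (wel 1 one_ne_zero)) = φ₀ (up c * lo (-c') * up c) := by
    rw [wel_eq, map_mul, map_mul, map_mul, map_mul, hup, hlo, hc, hc', map_mul, map_mul, hup, hlo, one_pow, mul_one,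
      inv_one, neg_one_pow_char_pow k, mul_neg, mul_one]
  have hcc : c * c' = 1 := by
    have h1 : τ (φ₀ (wel 1 one_ne_zero * up 1)) = τ (φ₀ (lo (-1) * wel 1 one_ne_zero)) := by rw [wel_up]
    rw [map_mul, map_mul, map_mul, map_mul, hw, hup, hlo, hc, hc', one_pow, mul_one, neg_one_pow_char_pow k,
      mul_neg, mul_one, ← hup, ← hlo, ← map_mul, ← map_mul] at h1
    have h2 : φ₀ ((up c * lo (-c') * up c * up c) * (lo (-c') * (up c * lo (-c') * up c))⁻¹) = 1 := by
      rw [map_mul, map_inv, h1, mul_inv_cancel]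
    apply mul_eq_one hc0 hc0'
    rcases ph_eq_one hp.inList ha h2 with h3 | h3
    · exact Or.inl (mul_inv_eq_one.1 h3)
    · right
      rw [mul_inv_eq_iff_eq_mul.1 h3, neg_mul, one_mul]
  -- the adjustment
  obtain ⟨b, hb⟩ := IsAlgClosed.exists_pow_nat_eq c⁻¹ (n := r ^ e - 1) (by omega)
  have hb0 : b ≠ 0 := by
    rintro rfl
    rw [zero_pow (by omega)] at hb
    exact inv_ne_zero hc0 hb.symm
  have hbQ : b ^ r ^ e = b * c⁻¹ := by
    obtain ⟨n, hn⟩ : ∃ n, r ^ e = n + 1 := ⟨r ^ e - 1, by omega⟩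
    rw [hn] at hb ⊢
    rw [Nat.add_sub_cancel] at hb
    rw [pow_succ, hb, mul_comm]
  obtain ⟨d, hd⟩ := IsAlgClosed.exists_pow_nat_eq b (n := 2) (by norm_num)
  have hd0 : d ≠ 0 := by
    rintro rfl
    rw [zero_pow two_ne_zero] at hd
    exact hb0 hd.symm
  let φ : SL2 k →* ↥(D.group k) := φ₀.comp (MulAut.conj (dg d hd0)).toMonoidHom
  have hφ : ∀ A, φ A = φ₀ (dg d hd0 * A * (dg d hd0)⁻¹) := fun A => rfl
  have h1 : ∀ s, φ (up s) = xc hp (vec D l a) (b * s) := by
    intro s
    rw [hφ, dg_up, mul_inv_cancel_right, hup, hd]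
  have h2 : ∀ s, φ (lo s) = xc hp (-vec D l a) (b⁻¹ * s) := by
    intro s
    rw [hφ, dg_lo, mul_inv_cancel_right, hlo, hd]
  refine ⟨φ, b, hb0, h1, h2, fun A hA => ?_, fun s => ?_, fun s => ?_⟩
  · rcases ph_eq_one hp.inList ha hA with h3 | h3
    · left
      have h4 : dg d hd0 * A * (dg d hd0)⁻¹ = 1 := h3
      rwa [conj_eq_one_iff] at h4
    · right
      have h4 : dg d hd0 * A * (dg d hd0)⁻¹ = -1 := h3
      have h5 : dg d hd0 * A = dg d hd0 * (-1) := by
        rw [mul_inv_eq_iff_eq_mul.1 h4, neg_mul, one_mul, mul_neg, mul_one]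
      exact mul_left_cancel h5
  · rw [h1, h1, hc, mul_pow, hbQ]
    congr 1
    field_simp
  · rw [h2, h2, hc', mul_pow, inv_pow, hbQ]
    congr 1
    rw [mul_inv, inv_inv]
    linear_combination (b⁻¹ * s ^ r ^ e) * hcc

end Chev

/-! ### the fields -/

section Fld

open Cfsg.Agent.H469.Exc (KK)

variable {r : ℕ} [hrf : Fact r.Prime]

theorem exists_field {N : ℕ} (hN : 0 < N) :
    ∃ (F : Type) (_ : Field F) (_ : Fintype F) (ι : F →+* KK r), Fintype.card F = r ^ N ∧
      (∀ s, (ι s) ^ r ^ N = ι s) ∧ ∀ s : KK r, s ^ r ^ N = s → s ∈ Set.range ι := by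
  classical
  let _ : Algebra (ZMod r) (KK r) := ZMod.algebra (KK r) r
  let _ : Fintype (GaloisField r N) := Fintype.ofFinite _
  let ι : GaloisField r N →+* KK r :=
    (IsAlgClosed.lift (R := ZMod r) (S := GaloisField r N) (M := KK r)).toRingHom
  have hcard : Nat.card (GaloisField r N) = r ^ N := GaloisField.card r N hN.ne'
  have hcard' : Fintype.card (GaloisField r N) = r ^ N := by rw [← hcard, Nat.card_eq_fintype_card]
  have hpow : ∀ s : GaloisField r N, (ι s) ^ r ^ N = ι s := by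
    intro s
    rw [← map_pow, ← hcard', FiniteField.pow_card]
  have hr1 : 1 < r := hrf.out.one_lt
  have h1N : 1 < r ^ N := Nat.one_lt_pow hN.ne' hr1
  refine ⟨GaloisField r N, inferInstance, inferInstance, ι, hcard', hpow, ?_⟩
  intro s hs
  obtain ⟨P, hP⟩ : ∃ P : Polynomial (KK r), P = Polynomial.X ^ r ^ N - Polynomial.X := ⟨_, rfl⟩
  have hP0 : P ≠ 0 := by
    rw [hP]
    exact FiniteField.X_pow_card_sub_X_ne_zero (KK r) h1N
  have hd : P.natDegree = r ^ N := by
    rw [hP]
    exact FiniteField.X_pow_card_sub_X_natDegree_eq (KK r) h1N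
  have hroot : ∀ t : KK r, t ∈ P.roots.toFinset ↔ t ^ r ^ N = t := by
    intro t
    rw [Multiset.mem_toFinset, Polynomial.mem_roots hP0, Polynomial.IsRoot.def, hP]
    simp [sub_eq_zero]
  have hsub : (Finset.univ.image ι) ⊆ P.roots.toFinset := by
    intro t ht
    obtain ⟨x, -, rfl⟩ := Finset.mem_image.1 ht
    exact (hroot _).2 (hpow x)
  have hc1 : (Finset.univ.image ι).card = r ^ N := by
    rw [Finset.card_image_of_injective _ ι.injective, Finset.card_univ, hcard']
  have hc2 : P.roots.toFinset.card ≤ r ^ N := by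
    rw [← hd]
    exact (Multiset.toFinset_card_le _).trans (Polynomial.card_roots' P)
  have heq := Finset.eq_of_subset_of_card_le hsub (by rw [hc1]; exact hc2)
  have h3 : s ∈ Finset.univ.image ι := by rw [heq]; exact (hroot s).2 hs
  obtain ⟨x, -, hx⟩ := Finset.mem_image.1 h3
  exact ⟨x, hx⟩

end Fld

end Cfsg.Agent.H202.TD
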